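import Groth.Agent.S6086
import Groth.Agent.MorLib.DescendIso
import Groth.Agent.GrpSchLib.MultTypeBC
import Mathlib.FieldTheory.IsAlgClosed.Basic
import Mathlib.RingTheory.Jacobson.Ring

/-!
# Group schemes over algebraically closed fields isomorphic over an extension

Finitely presented groups over an algebraically closed field which become isomorphic over some extension are
isomorphic: an isomorphism spreads to a finitely generated subalgebra, which has a rational point.
-/

universe u

open CategoryTheory CategoryTheory.Limits MonoidalCategory CartesianMonoidalCategory MonObj GrpObj AlgebraicGeometry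

namespace Groth.Agent.AlgClosedSpread

set_option backward.isDefEq.respectTransparency.types false

section Colim

variable (k : Type u) [Field k] (A : Type u) [CommRing A] [Algebra k A]

/-- The finitely generated subalgebras. -/
noncomputable def algs : Finset A ⥤ CommRingCat.{u} where
  obj s := CommRingCat.of (Algebra.adjoin k (s : Set A))
  map {s t} h := CommRingCat.ofHom
    (Subalgebra.inclusion (Algebra.adjoin_mono (Finset.coe_subset.2 (leOfHom h)))).toRingHom

/-- The cocone of the inclusions. -/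
noncomputable def cocone : Cocone (algs k A) where
  pt := CommRingCat.of A
  «ι» := { app := fun s => CommRingCat.ofHom (Algebra.adjoin k (s : Set A)).val.toRingHom }

/-- An algebra is the colimit of its finitely generated subalgebras. -/
noncomputable def isColimit : IsColimit (cocone k A) := by
  classical
  haveI : ReflectsColimit (algs k A) (forget CommRingCat.{u}) := reflectsColimit_of_reflectsIsomorphisms _ _
  refine isColimitOfReflects (forget CommRingCat.{u}) ?_
  refine Types.FilteredColimit.isColimitOf' _ _ (fun z => ?_) fun s x y h => ?_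
  · exact ⟨{z}, ⟨z, Algebra.subset_adjoin (Finset.mem_singleton_self z)⟩, rfl⟩
  · refine ⟨s, 𝟙 s, ?_⟩
    exact congrArg _ (Subtype.ext h)

/-- The system of spectra. -/
noncomputable def diagram : (Finset A)ᵒᵖ ⥤ Scheme.{u} := (algs k A).op ⋙ Scheme.Spec

/-- The limiting cone. -/
noncomputable def cone : Cone (diagram k A) := Scheme.Spec.mapCone (cocone k A).op

/-- The spectrum is the limit. -/
noncomputable def isLimit : IsLimit (cone k A) := isLimitOfPreserves Scheme.Spec (isColimit k A).op

instance isAffine_obj (i : (Finset A)ᵒᵖ) : IsAffine ((diagram k A).obj i) :=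
  isAffine_Spec (CommRingCat.of (Algebra.adjoin k ((i.unop : Finset A) : Set A)))

instance isAffineHom_map {i j : (Finset A)ᵒᵖ} (f : i ⟶ j) : IsAffineHom ((diagram k A).map f) :=
  isAffineHom_of_isAffine _

/-- The structure morphism of a stage. -/
noncomputable def str (i : (Finset A)ᵒᵖ) : (diagram k A).obj i ⟶ Spec (CommRingCat.of k) :=
  Spec.map (CommRingCat.ofHom (algebraMap k (Algebra.adjoin k ((i.unop : Finset A) : Set A))))

theorem map_str {i j : (Finset A)ᵒᵖ} (f : i ⟶ j) : (diagram k A).map f ≫ str k A j = str k A i := by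
  show Spec.map _ ≫ Spec.map _ = Spec.map _
  rw [← Spec.map_comp]
  rfl

theorem π_str (i : (Finset A)ᵒᵖ) :
    (cone k A).π.app i ≫ str k A i = Spec.map (CommRingCat.ofHom (algebraMap k A)) := by
  show Spec.map _ ≫ Spec.map _ = Spec.map _
  rw [← Spec.map_comp]
  rfl

set_option synthInstance.maxHeartbeats 100000 in
/-- Over an algebraically closed field every stage has a rational point. -/
theorem exists_point [IsAlgClosed k] [Nontrivial A] (i : (Finset A)ᵒᵖ) :
    ∃ σ : Spec (CommRingCat.of k) ⟶ (diagram k A).obj i, σ ≫ str k A i = 𝟙 _ := by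
  let B := Algebra.adjoin k ((i.unop : Finset A) : Set A)
  haveI : Algebra.FiniteType k B := Algebra.FiniteType.adjoin_of_finite (Finset.finite_toSet _)
  obtain ⟨m, hm⟩ := Ideal.exists_maximal B
  letI : Field (B ⧸ m) := Ideal.Quotient.field m
  haveI : Algebra.FiniteType k (B ⧸ m) := Algebra.FiniteType.of_surjective (Ideal.Quotient.mkₐ k m) Ideal.Quotient.mk_surjective
  haveI : Module.Finite k (B ⧸ m) := finite_of_finite_type_of_isJacobsonRing k (B ⧸ m)
  haveI : Algebra.IsAlgebraic k (B ⧸ m) := Algebra.IsAlgebraic.of_finite k (B ⧸ m)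
  let χ : B →ₐ[k] k := (IsAlgClosed.lift (S := B ⧸ m) (R := k) (M := k)).comp (Ideal.Quotient.mkₐ k m)
  refine ⟨Spec.map (CommRingCat.ofHom χ.toRingHom), ?_⟩
  show Spec.map _ ≫ Spec.map _ = 𝟙 _
  rw [← Spec.map_comp, ← Spec.map_id]
  congr 1
  ext x
  exact χ.commutes x

end Colim

/-- Groups over a base isomorphic over the limit of a system of affine schemes over it with sections are isomorphic. -/
theorem nonempty_iso_of_limit {S₀ : Scheme.{u}} {I : Type u} [SmallCategory I] [IsCofiltered I] (D : I ⥤ Scheme.{u})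
    (c : Cone D) (hc : IsLimit c) [∀ (a b : I) (f : a ⟶ b), IsAffineHom (D.map f)] [∀ a, IsAffine (D.obj a)]
    (st : ∀ a, D.obj a ⟶ S₀) (hst : ∀ {a b : I} (f : a ⟶ b), D.map f ≫ st b = st a)
    (hsec : ∀ a, ∃ σ : S₀ ⟶ D.obj a, σ ≫ st a = 𝟙 _) {pr : c.pt ⟶ S₀} (j : I) (hpr : c.π.app j ≫ st j = pr)
    (G H : Over S₀) [GrpObj G] [GrpObj H] [LocallyOfFinitePresentation G.hom] [QuasiCompact G.hom]
    [QuasiSeparated G.hom] [LocallyOfFinitePresentation H.hom] [QuasiCompact H.hom] [QuasiSeparated H.hom]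
    (e : Grp.mk (Red.bc pr G) ≅ Grp.mk (Red.bc pr H)) :
    Nonempty (Grp.mk G ≅ Grp.mk H) := by
  classical
  let Gj : Over (D.obj j) := Red.bc (st j) G
  let Hj : Over (D.obj j) := Red.bc (st j) H
  haveI : LocallyOfFinitePresentation Gj.hom := inferInstanceAs (LocallyOfFinitePresentation (pullback.snd _ _))
  haveI : QuasiCompact Gj.hom := inferInstanceAs (QuasiCompact (pullback.snd _ _))
  haveI : QuasiSeparated Gj.hom := inferInstanceAs (QuasiSeparated (pullback.snd _ _))
  haveI : LocallyOfFinitePresentation Hj.hom := inferInstanceAs (LocallyOfFinitePresentation (pullback.snd _ _))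
  haveI : QuasiCompact Hj.hom := inferInstanceAs (QuasiCompact (pullback.snd _ _))
  haveI : QuasiSeparated Hj.hom := inferInstanceAs (QuasiSeparated (pullback.snd _ _))
  obtain ⟨g₁⟩ := GrpSchLib.MultTypeBC.bc_bc (c.π.app j) (st j) G
  obtain ⟨g₂⟩ := GrpSchLib.MultTypeBC.bc_congr hpr G
  obtain ⟨h₁⟩ := GrpSchLib.MultTypeBC.bc_bc (c.π.app j) (st j) H
  obtain ⟨h₂⟩ := GrpSchLib.MultTypeBC.bc_congr hpr H
  let E : Grp.mk (Red.bc (c.π.app j) Gj) ≅ Grp.mk (Red.bc (c.π.app j) Hj) := g₁ ≪≫ g₂ ≪≫ e ≪≫ h₂.symm ≪≫ h₁.symm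
  let u : Red.bc (c.π.app j) Gj ⟶ Red.bc (c.π.app j) Hj := E.hom.hom.hom
  haveI : IsMonHom u := E.hom.hom.isMonHom_hom
  haveI : IsIso u := ⟨E.inv.hom.hom, congrArg (fun q => q.hom.hom) E.hom_inv_id,
    congrArg (fun q => q.hom.hom) E.inv_hom_id⟩
  obtain ⟨i, f, ui, hui, hmap⟩ := (Groth.Agent.S6086.result D c hc j Gj Hj).1 u inferInstance
  haveI := hui
  haveI : IsIso ((Over.pullback (c.π.app i)).map ui) := by rw [hmap]; infer_instance
  let Gi : Over (D.obj i) := Red.bc (D.map f) Gj
  let Hi : Over (D.obj i) := Red.bc (D.map f) Hj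
  haveI : LocallyOfFinitePresentation Gi.hom := inferInstanceAs (LocallyOfFinitePresentation (pullback.snd _ _))
  haveI : QuasiCompact Gi.hom := inferInstanceAs (QuasiCompact (pullback.snd _ _))
  haveI : QuasiSeparated Gi.hom := inferInstanceAs (QuasiSeparated (pullback.snd _ _))
  haveI : LocallyOfFinitePresentation Hi.hom := inferInstanceAs (LocallyOfFinitePresentation (pullback.snd _ _))
  haveI : QuasiCompact Hi.hom := inferInstanceAs (QuasiCompact (pullback.snd _ _))
  haveI : QuasiSeparated Hi.hom := inferInstanceAs (QuasiSeparated (pullback.snd _ _))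
  have hw : ui.left ≫ Hi.hom = Gi.hom := Over.w ui
  haveI : LocallyOfFinitePresentation (ui.left ≫ Hi.hom) := by rw [hw]; infer_instance
  haveI : QuasiCompact (ui.left ≫ Hi.hom) := by rw [hw]; infer_instance
  haveI : QuasiSeparated (ui.left ≫ Hi.hom) := by rw [hw]; infer_instance
  haveI : LocallyOfFinitePresentation ui.left := Groth.Agent.AlgSpPts.locallyOfFinitePresentation_of_comp ui.left Hi.hom
  haveI : QuasiCompact ui.left := QuasiCompact.of_comp ui.left Hi.hom
  haveI : QuasiSeparated ui.left := QuasiSeparated.of_comp ui.left Hi.hom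
  haveI : CompactSpace Hi.left := QuasiCompact.compactSpace_of_compactSpace Hi.hom
  haveI : MorphismProperty.RespectsIso (@LocallyOfFinitePresentation : MorphismProperty Scheme.{u}) :=
    MorphismProperty.IsStableUnderBaseChange.respectsIso
  have sq : ∀ {Z : Scheme.{u}} (p : Z ⟶ D.obj i),
      IsPullback (pullback.fst Gi.hom p) ((Over.pullback p).map ui).left ui.left (pullback.fst Hi.hom p) := fun p => by
    refine IsPullback.of_bot ?_ (GrpLimLib.map_left_fst (h := p) ui).symm (IsPullback.of_hasPullback Hi.hom p)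
    rw [hw, show ((Over.pullback p).map ui).left ≫ pullback.snd Hi.hom p = pullback.snd Gi.hom p from
      Over.w ((Over.pullback p).map ui)]
    exact IsPullback.of_hasPullback Gi.hom p
  obtain ⟨l, φ, Xl, Yl, fl, gl, pY, pX, sY, sX, hiso⟩ := MorLib.Desc.descend₂ D c hc
    (P := MorphismProperty.isomorphisms Scheme.{u}) (Q := @LocallyOfFinitePresentation) MorLib.Desc.core_iso
    ui.left Hi.hom inferInstance ((Over.pullback (c.π.app i)).map ui).left (pullback.snd _ _)
    (pullback.fst Hi.hom (c.π.app i)) (pullback.fst Gi.hom (c.π.app i)) (IsPullback.of_hasPullback _ _)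
    (sq _) (inferInstanceAs (IsIso ((Over.forget _).map ((Over.pullback (c.π.app i)).map ui))))
  haveI : IsIso ((Over.pullback (D.map φ)).map ui).left := by
    let q := sY.isoPullback
    have hq : q.hom ≫ pullback.fst Hi.hom (D.map φ) = pY := sY.isoPullback_hom_fst
    have hb : IsPullback pX (fl ≫ q.hom) ui.left (pullback.fst Hi.hom (D.map φ)) :=
      IsPullback.of_iso sX (Iso.refl _) (Iso.refl _) q (Iso.refl _) (by simp) (by simp) (by simp) (by simp [hq])
    haveI : IsIso fl := hiso
    exact MorLib.Desc.of_two (MorphismProperty.isomorphisms Scheme.{u}) hb (sq _)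
      (inferInstanceAs (IsIso (fl ≫ q.hom)))
  haveI : IsIso ((Over.pullback (D.map φ)).map ui) := by
    haveI : IsIso ((Over.forget _).map ((Over.pullback (D.map φ)).map ui)) :=
      ‹IsIso ((Over.pullback (D.map φ)).map ui).left›
    exact isIso_of_reflects_iso _ (Over.forget _)
  obtain ⟨σ, hσ⟩ := hsec l
  let a : Red.bc (D.map φ) Gi ⟶ Red.bc (D.map φ) Hi := (Over.pullback (D.map φ)).map ui
  haveI : IsMonHom (asIso a).hom := inferInstanceAs (IsMonHom ((Over.pullback (D.map φ)).map ui))
  obtain ⟨w⟩ := GrpSchLib.MultTypeBC.bc_iso σ (Grp.mkIso' (asIso a))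
  have hτ : ((σ ≫ D.map φ) ≫ D.map f) ≫ st j = 𝟙 _ := by
    rw [Category.assoc, Category.assoc]
    rw [hst, hst]
    exact hσ
  have back : ∀ (K : Over S₀) [GrpObj K],
      Nonempty (Grp.mk (Red.bc σ (Red.bc (D.map φ) (Red.bc (D.map f) (Red.bc (st j) K)))) ≅ Grp.mk K) := by
    intro K _
    obtain ⟨a₁⟩ := GrpSchLib.MultTypeBC.bc_bc σ (D.map φ) (Red.bc (D.map f) (Red.bc (st j) K))
    obtain ⟨a₂⟩ := GrpSchLib.MultTypeBC.bc_bc (σ ≫ D.map φ) (D.map f) (Red.bc (st j) K)
    obtain ⟨a₃⟩ := GrpSchLib.MultTypeBC.bc_bc ((σ ≫ D.map φ) ≫ D.map f) (st j) K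
    obtain ⟨a₄⟩ := GrpSchLib.MultTypeBC.bc_congr hτ K
    let a₅ : Grp.mk (Red.bc (𝟙 _) K) ≅ Grp.mk K :=
      (Functor.mapGrpNatIso Over.pullbackId ≪≫ Functor.mapGrpIdIso).app (Grp.mk K)
    exact ⟨a₁ ≪≫ a₂ ≪≫ a₃ ≪≫ a₄ ≪≫ a₅⟩
  obtain ⟨bG⟩ := back G
  obtain ⟨bH⟩ := back H
  exact ⟨bG.symm ≪≫ w ≪≫ bH⟩

/-- Finitely presented groups over an algebraically closed field isomorphic over an extension are isomorphic. -/
theorem nonempty_iso_of_extension (k : Type u) [Field k] [IsAlgClosed k] (A : Type u) [CommRing A] [Nontrivial A]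
    [Algebra k A] (G H : Over (Spec (CommRingCat.of k))) [GrpObj G] [GrpObj H]
    [LocallyOfFinitePresentation G.hom] [QuasiCompact G.hom] [QuasiSeparated G.hom]
    [LocallyOfFinitePresentation H.hom] [QuasiCompact H.hom] [QuasiSeparated H.hom]
    (e : Grp.mk (Red.bc (Spec.map (CommRingCat.ofHom (algebraMap k A))) G) ≅
      Grp.mk (Red.bc (Spec.map (CommRingCat.ofHom (algebraMap k A))) H)) :
    Nonempty (Grp.mk G ≅ Grp.mk H) := by
  haveI : ∀ (a b : (Finset A)ᵒᵖ) (f : a ⟶ b), IsAffineHom ((diagram k A).map f) := fun a b f => isAffineHom_map k A f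
  exact nonempty_iso_of_limit (diagram k A) (cone k A) (isLimit k A) (str k A) (map_str k A) (exists_point k A)
    (Opposite.op ∅) (π_str k A _) G H e

end Groth.Agent.AlgClosedSpread
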